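import Cfsg.Agent.H6.MHS.D
set_option maxRecDepth 100000
set_option Elab.async false
namespace H6M.MHS
open H0 BN 
theorem good : H6.Good D Ws nl := (List.Forall₂.cons (H6.good (by decide +kernel) (by decide +kernel) c40 c41 c42 c43) (List.Forall₂.cons (H6.good (by decide +kernel) (by decide +kernel) c36 c37 c38 c39) (List.Forall₂.cons (H6.good (by decide +kernel) (by decide +kernel) c32 c33 c34 c35) (List.Forall₂.cons (H6.good (by decide +kernel) (by decide +kernel) c28 c29 c30 c31) (List.Forall₂.cons (H6.good (by decide +kernel) (by decide +kernel) c24 c25 c26 c27) (List.Forall₂.cons (H6.good (by decide +kernel) (by decide +kernel) c20 c21 c22 c23) (List.Forall₂.cons (H6.good (by decide +kernel) (by decide +kernel) c16 c17 c18 c19) (List.Forall₂.cons (H6.good (by decide +kernel) (by decide +kernel) c12 c13 c14 c15) (List.Forall₂.cons (H6.good (by decide +kernel) (by decide +kernel) c8 c9 c10 c11) (List.Forall₂.cons (H6.good (by decide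 +kernel) (by decide +kernel) c4 c5 c6 c7) (List.Forall₂.cons (H6.good (by decide +kernel) (by decide +kernel) c0 c1 c2 c3) List.Forall₂.nil)))))))))))
theorem cmp (x : ℕ) : D.Cmp (H6.gL Ws x) (R.p x) := good.cmp' x
theorem dinj : D.Inj := H6.ld_inj (R := R) cmp (by decide +kernel) [0] c44 [[0], [2], [0], [2], [0], [2], [0], [2], [0], [2], [2], [0]] c45
section
variable {G : Type} [Group G] [Finite G] (m0 : Model G) (h0 : m0.R = R)
include h0
theorem ch_ok : m0.ChainOK ch [] := (m0.chain_cons [0, 1, 0, 1, 0, 1, 0, 1, 0, 1, 1, 0] (Model.via _ h0 (fun R => Model.fixP R [] [[0], [2]]) c57) (Model.via _ h0 (fun R => Model.growP R [[0], [2]] [0, 1, 0, 1, 0, 1, 0, 1, 0, 1, 1, 0] 0 100) c58) (m0.chain_cons [0, 1, 0, 1, 0, 1, 0, 1, 0, 0] (Model.via _ h0 (fun R => Model.fixP R [0] [[4], [5]]) c55) (Model.via _ h0 (fun R => Model.growP R [[4], [5]] [0, 1, 0, 1, 0, 1, 0, 1, 0, 0] 1 77) c56) (m0.chain_cons [0, 1, 0, 1, 0, 1, 0, 0, 1, 0, 0] (Model.via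 _ h0 (fun R => Model.fixP R [1, 0] [[6], [7]]) c53) (Model.via _ h0 (fun R => Model.growP R [[6], [7]] [0, 1, 0, 1, 0, 1, 0, 0, 1, 0, 0] 2 60) c54) (m0.chain_cons [0, 1, 0, 1, 1, 0, 0, 1] (Model.via _ h0 (fun R => Model.fixP R [2, 1, 0] [[8], [9]]) c51) (Model.via _ h0 (fun R => Model.growP R [[8], [9]] [0, 1, 0, 1, 1, 0, 0, 1] 18 32) c52) (m0.chain_cons [0, 0] (Model.via _ h0 (fun R => Model.fixP R [18, 2, 1, 0] [[10]]) c49) (Model.via _ h0 (fun R => Model.growP R [[10]] [0, 0] 3 3) c50) (m0.chain_nil _))))))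
theorem low : 44352000 * Nat.card (m0.pst [3, 18, 2, 1, 0]) ≤ Nat.card G := H6.chain_low m0 (ch_ok m0 h0)
end
variable {G : Type} [Group G] (P : H6.MC G R 44352000)
def m : Model G := P.m
include P
theorem mR : (m P).R = R := P.hR
theorem card : Nat.card G = 44352000 := P.card
theorem fin : Finite G := Nat.finite_of_card_ne_zero (by rw [card P]; decide)
theorem base : (m P).pst [3, 18, 2, 1, 0] = ⊥ := haveI := fin P; (m P).chain_bot (ch_ok _ (mR P)) (card P)
theorem inj : Function.Injective (m P).φ := (m P).inj_of_base (base P)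
theorem dfs : ∀ e ∈ H6.defsE defs 4, ev (m P).g e.1 = ev (m P).g e.2 := all_take_done (all_take_step (all_take_zero _ (H6.defsE defs 4)) ((m P).pairs_of (base P) (Model.via _ (mR P) (fun R => pairsB R [3, 18, 2, 1, 0] (((H6.defsE defs 4).drop 0).take 7)) c59))) (by decide +kernel)
theorem top : gen (m P).g (lets 4) = ⊤ :=
  haveI := fin P; H6.top_of_defs defs 4 (dfs P) (by decide +kernel) ((m P).chain_top (ch_ok _ (mR P)) (card P)) (by decide +kernel)
theorem hi : ∀ x < 4, (m P).g x * (m P).g (inv x) = 1 := inv_of_invChk (all_take_done (all_take_step (all_take_zero _ B0) ((m P).ev_one (inj P) (Model.via _ (mR P) (fun R => relsW R 0 R.lg ((B0.drop 0).take 4)) c60))) (by decide +kernel)) (by decide +kernel)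
theorem trans : (m P).orb ⊤ 0 = Set.Ico 0 (0 + 100) :=
  (m P).orb_eq_ico' ((m P).inOrb_mono le_top ((m P).inOrb_grow [0, 1, 0, 1, 0, 1, 0, 1, 0, 1, 1, 0] ((m P).inOrb_self _ 0) (Model.via _ (mR P) (fun R => Model.growW R [[0], [2]] [0, 1, 0, 1, 0, 1, 0, 1, 0, 1, 1, 0] (Nat.pow 2 0) (ival 0 100)) c61))) (top P).ge (Model.via _ (mR P) (fun R => Model.invW R [[0], [1], [2], [3]] 0 100) c62) (by decide)
theorem sub1 : (m P).InOrb (gen (m P).g [[4], [5]]) 53 (ival 1 77) := ((m P).inOrb_grow [0, 1, 0, 1, 0, 1, 0, 0, 1, 0, 1] ((m P).inOrb_self _ 53) (Model.via _ (mR P) (fun R => Model.growW R [[4], [5]] [0, 1, 0, 1, 0, 1, 0, 0, 1, 0, 1] (Nat.pow 2 53) (ival 1 77)) c64))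
theorem sub78 : (m P).InOrb (gen (m P).g [[4], [5]]) 83 (ival 78 22) := ((m P).inOrb_grow [0, 0, 1, 0, 1, 0, 0, 1] ((m P).inOrb_self _ 83) (Model.via _ (mR P) (fun R => Model.growW R [[4], [5]] [0, 0, 1, 0, 1, 0, 0, 1] (Nat.pow 2 83) (ival 78 22)) c67))
theorem coatom : IsCoatom ((m P).pst [0]) := (m P).coatom (trans P) (by decide) ((m P).maxUpTo_step ((m P).maxUpTo_step ((m P).maxUpTo_one 100) (Model.via _ (mR P) (fun R => Model.fixW R [0] [[4], [5]]) c63) (sub1 P) (Model.via _ (mR P) (fun R => Nat.ble (1 + 77) R.N) (by decide +kernel)) (Model.via _ (mR P) (fun R => Nat.ble (0 + 100) R.N) (by decide +kernel)) (Model.via _ (mR P) (fun R => mapsW R [0] (Nat.pow 2 0) (Nat.pow 2 53)) c65) ((m P).inOrb_grow [0, 0, 1, 2, 0, 1, 2, 0, 1, 2, 1, 0] ((m P).inOrb_self _ 0) (Model.via _ (mR P) (fun R => Model.growW R [[0], [4], [5]] [0, 0, 1, 2, 0, 1, 2, 0, 1, 2, 1, 0] (Nat.pow 2 0) (ival 0 100)) c66))) (Model.via _ (mR P) (fun R => Model.fixW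 R [0] [[4], [5]]) c63) (sub78 P) (Model.via _ (mR P) (fun R => Nat.ble (78 + 22) R.N) (by decide +kernel)) (Model.via _ (mR P) (fun R => Nat.ble (0 + 100) R.N) (by decide +kernel)) (Model.via _ (mR P) (fun R => mapsW R [0, 2] (Nat.pow 2 0) (Nat.pow 2 83)) c68) ((m P).inOrb_grow [0, 0, 1, 2, 0, 1, 2, 0, 1, 2, 0] ((m P).inOrb_self _ 0) (Model.via _ (mR P) (fun R => Model.growW R [[0, 2], [4], [5]] [0, 0, 1, 2, 0, 1, 2, 0, 1, 2, 0] (Nat.pow 2 0) (ival 0 100)) c69)))
end H6M.MHS
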